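import Cfsg.Agent.H58.ExtField.Field
import Cfsg.Agent.H58.ExtField.OrthThreeMain

/-!
# The normaliser of a self-adjoint extension field of prime degree is maximal in the orthogonal group
-/

set_option autoImplicit false
set_option linter.unusedSectionVars false
set_option linter.unusedVariables false

namespace Cfsg.Agent.H58.ExtField.Orth

open scoped Matrix
open QuadraticMap hiding sq
open Cfsg.Agent.H5

variable {ι : Type} [Fintype ι] [DecidableEq ι] {F : Type*} [Field F] [Fintype F]

/-- The normaliser of a self-adjoint field of prime degree at most a third of the dimension is maximal in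
`Ω`, apart from degrees two and three in dimension three over the field. -/
theorem field_maximal_orth' (Q : QuadraticForm F (ι → F)) {f : (ι → F) → F} (hf : ⇑Q = f)
    (hQ : (polarBilin Q).Nondegenerate) (h2 : (2 : F) ≠ 0) {r : ℕ} {K : Subalgebra F (Matrix ι ι F)}
    (hr : r.Prime) (hK : Cfsg.Geo.IsFieldSubalgebra r K) (h4 : 3 * r ≤ Fintype.card ι)
    (hcase : 5 ≤ r ∨ 4 * r ≤ Fintype.card ι)
    (hsa : Cfsg.Geo.IsSelfAdjointFor (QuadraticMap.polar f) K) :
    Cfsg.Geo.IsMaximalIn (Cfsg.Geo.omegaGL f) (Cfsg.Geo.subalgebraNormalizer K ⊓ Cfsg.Geo.omegaGL f) := by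
  classical
  have hr2 := hr.two_le
  have : Nonempty ι := Fintype.card_pos_iff.1 (by omega)
  haveI : Finite (ι → F) := Pi.finite
  have hfr : Module.finrank F (FK hK) = r := FK.finrank_eq hK
  have hn : r * Module.finrank (FK hK) (ι → F) = Fintype.card ι := by
    have := Module.finrank_mul_finrank F (FK hK) (ι → F)
    rwa [hfr, Module.finrank_fintype_fun_eq_card] at this
  have hcard : Module.finrank F (ι → F) = Fintype.card ι := Module.finrank_fintype_fun_eq_card F
  have hext : ∀ {A B : Matrix ι ι F}, (∀ v, A *ᵥ v = B *ᵥ v) → A = B := fun he =>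
    Matrix.ext_of_mulVec_single fun _ => he _
  have hsemi : ∀ g : orth Q, SemiL (FK hK) g.1 → toGLHom Q hf g ∈ Cfsg.Geo.subalgebraNormalizer K := by
    intro g hg
    refine mem_normalizer_of_conj fun k hk => ?_
    obtain ⟨d, hd⟩ := hg (FK.mk hK k hk)
    have : ((toGLHom Q hf g : GL ι F) : Matrix ι ι F) * k * (((toGLHom Q hf g)⁻¹ : GL ι F) : Matrix ι ι F) =
        d.mat := hext fun v => by
      rw [← Matrix.mulVec_mulVec, ← Matrix.mulVec_mulVec, toGLHom_mulVec, ← map_inv, toGLHom_mulVec]
      have := hd (((g⁻¹ : orth Q) : (ι → F) ≃ₗ[F] (ι → F)) v)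
      rw [FK.smul_eq, FK.smul_eq, orth_apply_inv_apply] at this
      exact this
    rw [this]
    exact (d : ↥K).2
  refine isMaximalIn_omegaGL Q hf _ ?_ fun M hM g hg _ hgS => ?_
  · -- an Eichler transformation is not semilinear
    obtain ⟨c, hc⟩ : ∃ c : FK hK, c ∉ Set.range (algebraMap F (FK hK)) := by
      by_contra hall
      push Not at hall
      have h1 := Fintype.card_le_of_surjective _ hall
      rw [← Nat.card_eq_fintype_card (α := FK hK), card_E F (FK hK), hfr] at h1
      have h3 : Fintype.card F ^ 2 ≤ Fintype.card F ^ r := Nat.pow_le_pow_right Fintype.card_pos hr2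
      have h4' : 2 ≤ Fintype.card F := Fintype.one_lt_card
      have h5 := le_trans h3 h1
      rw [pow_two] at h5
      nlinarith
    obtain ⟨v, hv0, hv⟩ := exists_singular hQ (by omega)
    obtain ⟨u, hvu, hu⟩ : ∃ u, polar Q v u = 0 ∧ u ∉ Submodule.span (FK hK) {v} := by
      by_contra h
      push Not at h
      have h1 : LinearMap.ker (polarBilin Q v) ≤
          LinearMap.range ((LinearMap.toSpanSingleton (FK hK) (ι → F) v).restrictScalars F) := fun u hu => by
        obtain ⟨e, rfl⟩ := Submodule.mem_span_singleton.1 (h u hu)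
        exact ⟨e, rfl⟩
      have h1' := Submodule.finrank_mono h1
      have h1'' := LinearMap.finrank_range_le ((LinearMap.toSpanSingleton (FK hK) (ι → F) v).restrictScalars F)
      have h2' := (polarBilin Q v).finrank_range_add_finrank_ker
      have h3 := Submodule.finrank_le (LinearMap.range (polarBilin Q v))
      rw [Module.finrank_self] at h3
      omega
    have hQE : ∀ z, (eich Q v u : (ι → F) ≃ₗ[F] (ι → F)) z =
        z + polar Q v z • u - polar Q u z • v - (Q u * polar Q v z) • v := eich_apply hv hvu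
    refine ⟨eich Q v u, eichGroup_le_commutator hQ (Or.inr (by omega)) (eich_mem_eichGroup _ _), fun h => ?_⟩
    obtain ⟨d, hd⟩ : ∃ d : FK hK, ∀ x, (eich Q v u : (ι → F) ≃ₗ[F] (ι → F)) (c • x) =
        d • (eich Q v u : (ι → F) ≃ₗ[F] (ι → F)) x := by
      refine ⟨FK.mk hK _ ((h c.mat).1 (c : ↥K).2), fun x => ?_⟩
      rw [FK.smul_eq, FK.smul_eq]
      show _ = (_ * _ * _) *ᵥ _
      rw [← Matrix.mulVec_mulVec, ← Matrix.mulVec_mulVec, ← toGLHom_mulVec Q hf, ← toGLHom_mulVec Q hf,
        H98.gl_inv_mulVec]
    -- fixed vectors give `d = c`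
    let L : (ι → F) →ₗ[F] (F × F) × (F × F) :=
      ((polarBilin Q v).prod (polarBilin Q u)).prod
        (((polarBilin Q v).prod (polarBilin Q u)) ∘ₗ DistribSMul.toLinearMap F (ι → F) c)
    obtain ⟨z, hz, hz0⟩ : ∃ z ∈ LinearMap.ker L, z ≠ 0 :=
      Submodule.exists_mem_ne_zero_of_ne_bot fun hker => by
        have := LinearMap.finrank_le_finrank_of_injective (LinearMap.ker_eq_bot.1 hker)
        rw [hcard, Module.finrank_prod, Module.finrank_prod, Module.finrank_self] at this
        omega
    simp only [L, LinearMap.mem_ker, LinearMap.prod_apply, Function.prod_apply, Prod.mk_eq_zero,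
      LinearMap.comp_apply, DistribSMul.toLinearMap_apply, polarBilin_apply_apply] at hz
    obtain ⟨⟨z1, z2⟩, z3, z4⟩ := hz
    have hdc : d = c := by
      have := hd z
      rw [hQE, hQE, z1, z2, z3, z4] at this
      simp only [mul_zero, zero_smul, add_zero, sub_zero] at this
      exact (smul_left_injective (FK hK) hz0 this).symm
    have huv : u ∉ Submodule.span F {v} := fun h' => hu (by
      obtain ⟨t, rfl⟩ := Submodule.mem_span_singleton.1 h'
      rw [← algebraMap_smul (FK hK) t v]
      exact Submodule.smul_mem _ _ (Submodule.mem_span_singleton_self v))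
    obtain ⟨x, hx1, hx2⟩ := exists_polar_pair hQ hv0 huv 0 1
    have := hd x
    rw [hdc, hQE, hQE, hx1, hx2, smul_sub, smul_sub, smul_add] at this
    simp only [mul_zero, zero_smul, smul_zero, add_zero, sub_zero, one_smul] at this
    -- so `c • v` is in the span of `u` and `v`
    by_cases hcu : polar Q v (c • x) = 0
    · rw [hcu] at this
      simp only [mul_zero, zero_smul, add_zero, sub_zero, sub_right_inj] at this
      refine hc ⟨polar Q u (c • x), smul_left_injective (FK hK) hv0 ?_⟩
      show algebraMap F (FK hK) _ • v = c • v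
      rw [algebraMap_smul]
      exact this
    · refine hu ?_
      have e : polar Q v (c • x) • u =
          (algebraMap F (FK hK) (polar Q u (c • x) + Q u * polar Q v (c • x)) - c) • v := by
        rw [sub_smul, algebraMap_smul, add_smul]
        linear_combination (norm := module) this
      rw [← inv_smul_smul₀ hcu u, e, ← algebraMap_smul (FK hK) (polar Q v (c • x))⁻¹, smul_smul]
      exact Submodule.smul_mem _ _ (Submodule.mem_span_singleton_self v)
  · obtain ⟨fB, hfB⟩ := exists_form Q fun (c : FK hK) x y => by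
      rw [hf, FK.smul_eq, FK.smul_eq]
      exact hsa _ (c : ↥K).2 x y
    have hdim : ∀ k, k * r ≤ Fintype.card ι → k ≤ Module.finrank (FK hK) (ι → F) := fun k hk =>
      Nat.le_of_mul_le_mul_left (by rw [hn, mul_comm]; exact hk) hr.pos
    have H : OCtx Q fB M :=
      { prime := by rw [hfr]; exact hr
        two := h2
        nd := hQ
        htr := hfB
        dim := hdim 3 h4
        lin := fun k hk hl => hM k hk (hsemi k fun c => ⟨c, hl c⟩)
        notSemi := ⟨g, hg, fun hs => hgS (hsemi g hs)⟩ }
    rcases Nat.lt_or_ge (Module.finrank (FK hK) (ι → F)) 4 with ha | ha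
    · have h3 : Module.finrank (FK hK) (ι → F) = 3 := le_antisymm (by omega) (hdim 3 h4)
      refine H.omega_le_three h3 ?_
      rw [hfr]
      refine hcase.resolve_right fun h5 => ?_
      have := hdim 4 h5
      omega
    · exact H.omega_le ha

/-- The normaliser of a self-adjoint field of prime degree at most a third of the dimension is maximal in
`Ω`, apart from degrees two and three with few coordinates. -/
theorem field_maximal_orth (Q : QuadraticForm F (ι → F)) {f : (ι → F) → F} (hf : ⇑Q = f)
    (hQ : (polarBilin Q).Nondegenerate) (h2 : (2 : F) ≠ 0) {r : ℕ} {K : Subalgebra F (Matrix ι ι F)}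
    (hr : r.Prime) (hK : Cfsg.Geo.IsFieldSubalgebra r K) (h4 : 3 * r ≤ Fintype.card ι)
    (hcase : 5 ≤ r ∨ 5 * r ≤ Fintype.card ι)
    (hsa : Cfsg.Geo.IsSelfAdjointFor (QuadraticMap.polar f) K) :
    Cfsg.Geo.IsMaximalIn (Cfsg.Geo.omegaGL f) (Cfsg.Geo.subalgebraNormalizer K ⊓ Cfsg.Geo.omegaGL f) :=
  field_maximal_orth' Q hf hQ h2 hr hK h4
    (hcase.imp_right fun h => (Nat.mul_le_mul_right r (show 4 ≤ 5 by omega)).trans h) hsa

end Cfsg.Agent.H58.ExtField.Orth
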